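import Groth.Agent.Lib.Biduality.Main
import Groth.Agent.Lib.DerivedOX.PullbackQis
import Groth.Agent.Lib.DerivedOX.PullTensor
import Groth.Agent.Lib.DerivedOX.UnitTensor
import Groth.Agent.Lib.CohDelta.BC.Flat
import Mathlib.Algebra.Category.ModuleCat.Descent

/-!
# Flat pullback of internal Hom complexes

`f^* Hom(P, I) → Hom(f^* P, J)` is a quasi-isomorphism for a flat `f`, a bounded below complex of
injectives `I` with `f^* I → J` an injective resolution, and `P` bounded above with coherent cohomology.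
-/

set_option autoImplicit false
set_option linter.style.haveILetI false
set_option linter.unusedSectionVars false

universe u

open CategoryTheory Limits AlgebraicGeometry HomologicalComplex

attribute [local instance] HasDerivedCategory.standard

noncomputable section

namespace Groth.Agent.Lib.PullHom77

open Groth.Agent.Lib Groth.Agent.Lib.DerivedOX Groth.Agent.Lib.Modules Groth.Agent.Lib.Biduality
open DualHom DualQis DualExact DualFree DualBidual DualDevissage StalkModule TrivCof LeftRes Invariance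
open Groth.Agent.Lib.Perfect Groth.Agent.Lib.Perfect.Basic PullTranspose KFlatBaseChange

variable {X Y : Scheme.{u}} (f : X ⟶ Y) {I : CochainComplex Y.Modules ℤ}
  {J : CochainComplex X.Modules ℤ} (i : (pullC f).obj I ⟶ J)

theorem pt_natural_left {K K' : CochainComplex Y.Modules ℤ} (g : K ⟶ K')
    (L : CochainComplex Y.Modules ℤ) :
    (DCoh.tensorCx.map ((pullC f).map g)).app ((pullC f).obj L) ≫ (PullTensor.pullTensorIso f K' L).hom =
      (PullTensor.pullTensorIso f K L).hom ≫ (pullC f).map ((DCoh.tensorCx.map g).app L) := by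
  have h := BifunctorMap.totalIso_natural (PullTensor.pullComparison f) g (𝟙 L)
  simp only [CategoryTheory.Functor.map_id] at h
  exact h

theorem pt_natural_right (K : CochainComplex Y.Modules ℤ) {L L' : CochainComplex Y.Modules ℤ}
    (b : L ⟶ L') :
    (DCoh.tensorCx.obj ((pullC f).obj K)).map ((pullC f).map b) ≫
        (PullTensor.pullTensorIso f K L').hom =
      (PullTensor.pullTensorIso f K L).hom ≫ (pullC f).map ((DCoh.tensorCx.obj K).map b) := by
  have h := BifunctorMap.totalIso_natural (PullTensor.pullComparison f) (𝟙 K) b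
  simp only [CategoryTheory.Functor.map_id] at h
  exact h

/-- The pairing `f^* Hom(P, I) ⊗ f^* P → J`. -/
def ψ (P : CochainComplex Y.Modules ℤ) :
    (DCoh.tensorCx.obj ((pullC f).obj ((Hc P).obj I))).obj ((pullC f).obj P) ⟶ J :=
  (PullTensor.pullTensorIso f ((Hc P).obj I) P).hom ≫ (pullC f).map (ev P I) ≫ i

/-- The comparison. -/
def θ (P : CochainComplex Y.Modules ℤ) :
    (pullC f).obj ((Hc P).obj I) ⟶ (Hc ((pullC f).obj P)).obj J :=
  (adj ((pullC f).obj P)).homEquiv ((pullC f).obj ((Hc P).obj I)) J (ψ f i P)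

theorem symm_θ (P : CochainComplex Y.Modules ℤ) :
    ((adj ((pullC f).obj P)).homEquiv ((pullC f).obj ((Hc P).obj I)) J).symm (θ f i P) = ψ f i P :=
  Equiv.symm_apply_apply _ _

theorem θ_natural {P' P : CochainComplex Y.Modules ℤ} (a : P' ⟶ P) :
    θ f i P ≫ (pre ((pullC f).map a)).app J = (pullC f).map ((pre a).app I) ≫ θ f i P' := by
  apply ((adj ((pullC f).obj P')).homEquiv _ _).symm.injective
  rw [homEquiv_symm_comp_pre, symm_θ, Adjunction.homEquiv_naturality_left_symm, symm_θ]
  have hc : (Tc P').map ((pre a).app I) ≫ ev P' I =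
      (DCoh.tensorCx.obj ((Hc P).obj I)).map a ≫ ev P I :=
    conjugateEquiv_counit (adj P) (adj P') (DCoh.tensorCx.flip.map a) I
  have hc' : (pullC f).map ((DCoh.tensorCx.map ((pre a).app I)).app P') ≫ (pullC f).map (ev P' I) =
      (pullC f).map ((DCoh.tensorCx.obj ((Hc P).obj I)).map a) ≫ (pullC f).map (ev P I) :=
    ((pullC f).map_comp _ _).symm.trans ((congrArg (pullC f).map hc).trans ((pullC f).map_comp _ _))
  rw [ψ, ψ, reassoc_of% (pt_natural_right f ((Hc P).obj I) a)]
  refine Eq.trans ?_ ((Category.assoc _ _ _).symm.trans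
    ((congrArg (· ≫ _) (pt_natural_left f ((pre a).app I) P')).trans (Category.assoc _ _ _))).symm
  rw [reassoc_of% hc']

theorem quasiIso_θ_one [QuasiIso i] [J.IsKInjective] (hJ : InjTerms J) : QuasiIso (θ f i (one Y)) := by
  let e := (UnitTensor.pullOneIso f 0).inv
  haveI : QuasiIso ((pre e).app J) := quasiIso_pre hJ e
  have h : QuasiIso (θ f i (one Y) ≫ (pre e).app J) := by
    refine DualBidualPerfect.quasiIso_of_adjoint _ ?_
    rw [homEquiv_symm_comp_pre, symm_θ, ψ]
    haveI : IsIso (ev (one Y) I) := isIso_ev_one I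
    haveI : IsIso ((DCoh.tensorCx.obj ((pullC f).obj ((Hc (one Y)).obj I))).map e) := inferInstance
    haveI : QuasiIso ((pullC f).map (ev (one Y) I)) := inferInstance
    infer_instance
  exact quasiIso_of_comp_right _ ((pre e).app J)

variable [Flat f]

theorem shortExact_pullC {S : ShortComplex (CochainComplex Y.Modules ℤ)} (hS : S.ShortExact) :
    (S.map (pullC f)).ShortExact := by
  haveI := CohDelta.BC.Flat.preservesFiniteLimits_pullback f
  haveI : PreservesColimitsOfSize.{u, u} (Scheme.Modules.pullback f) :=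
    (Scheme.Modules.pullbackPushforwardAdjunction f).leftAdjoint_preservesColimits
  haveI : PreservesFiniteColimits (Scheme.Modules.pullback f) :=
    PreservesColimitsOfSize.preservesFiniteColimits _
  refine HomologicalComplex.shortExact_of_degreewise_shortExact _ fun n => ?_
  exact ((HomologicalComplex.shortExact_iff_degreewise_shortExact S).1 hS n).map_of_exact
    (Scheme.Modules.pullback f)

/-- Flat pullback preserves quasi-isomorphisms over opens. -/
theorem qisAt_pullC {V : Y.Opens} {K K' : CochainComplex Y.Modules ℤ} {a : K ⟶ K'} (ha : QisAt V a) :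
    QisAt (f ⁻¹ᵁ V) ((pullC f).map a) := fun x hx => by
  haveI := ha (f.base x) hx
  haveI : PreservesFiniteLimits (extF (f.stalkMap x).hom) :=
    ModuleCat.preservesFiniteLimits_extendScalars_of_flat (Flat.stalkMap f x)
  let ψ' : (Scheme.Modules.pullback f ⋙ stalkModFunctor X x).mapHomologicalComplex (ComplexShape.up ℤ) ≅
      (stalkModFunctor Y (f.base x) ⋙ extF (f.stalkMap x).hom).mapHomologicalComplex
        (ComplexShape.up ℤ) :=
    NatIso.mapHomologicalComplex (PullbackStalk.pullbackStalkIso f x).symm _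
  haveI : QuasiIso (((extF (f.stalkMap x).hom).mapHomologicalComplex (ComplexShape.up ℤ)).map
      ((St (f.base x)).map a)) := inferInstance
  exact (quasiIso_iff_of_arrow_mk_iso _ _
    (Arrow.isoMk (ψ'.app K) (ψ'.app K') (ψ'.hom.naturality a).symm)).2 (by assumption)

variable [I.IsKInjective] [J.IsKInjective] (hI : InjTerms I) (hJ : InjTerms J)

include hI hJ

theorem θ_two_of_three {V : X.Opens} {S : ShortComplex (CochainComplex Y.Modules ℤ)} (hS : S.ShortExact) :
    (QisAt V (θ f i S.X₁) → QisAt V (θ f i S.X₂) → QisAt V (θ f i S.X₃)) ∧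
      (QisAt V (θ f i S.X₁) → QisAt V (θ f i S.X₃) → QisAt V (θ f i S.X₂)) ∧
        (QisAt V (θ f i S.X₂) → QisAt V (θ f i S.X₃) → QisAt V (θ f i S.X₁)) := by
  obtain ⟨a, b, c⟩ := qisAt_two_of_three (V := V)
    (ShortComplex.homMk (S₁ := (hcSC S I).map (pullC f)) (S₂ := hcSC (S.map (pullC f)) J)
      (θ f i S.X₃) (θ f i S.X₂) (θ f i S.X₁) (θ_natural f i S.g) (θ_natural f i S.f))
    (shortExact_pullC f (shortExact_hcSC' hS hI)) (shortExact_hcSC' (shortExact_pullC f hS) hJ)
  exact ⟨fun h₁ h₂ => c h₂ h₁, fun h₁ h₃ => b h₃ h₁, fun h₂ h₃ => a h₃ h₂⟩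

/-- The dévissage predicate. -/
theorem isDevissable [QuasiIso i] :
    IsDevissable (X := Y) fun V P => QisAt (f ⁻¹ᵁ V) (θ f i P) where
  inv V P' P a ha _ _ := by
    have h₁ := qisAt_pre hJ _ (qisAt_pullC f ha)
    have h₂ := qisAt_pullC f (qisAt_pre hI a ha)
    constructor
    · intro h
      refine h₂.of_comp_left ?_
      rw [← θ_natural]
      exact h.comp h₁
    · intro h
      refine h₁.of_comp_right ?_
      rw [θ_natural]
      exact h₂.comp h
  two V S σ _ _ _ := θ_two_of_three f i hI hJ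
    (HomologicalComplex.shortExact_of_degreewise_shortExact S fun n => (σ n).some.shortExact)
  zero V P hP := by
    have hz : ∀ {Z : Scheme.{u}} (Q : CochainComplex Z.Modules ℤ), IsZero Q →
        ∀ J' : CochainComplex Z.Modules ℤ, IsZero ((Hc Q).obj J') := fun Q hQ J' =>
      SchColim29.RHomLocal.isZero_Hc hQ J'
    haveI := OpenSupport.isIso_of_zero (θ f i P) ((pullC f).map_isZero (hz P hP I))
      (hz _ ((pullC f).map_isZero hP) J)
    exact QisAt.of_quasiIso _
  one V := haveI := quasiIso_θ_one f i hJ; QisAt.of_quasiIso _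

/-- The comparison is invertible for bounded above complexes with coherent cohomology. -/
theorem quasiIso_θ [IsLocallyNoetherian Y] [QuasiIso i] (aI : ℤ) [I.IsStrictlyGE aI]
    [J.IsStrictlyGE aI] (P : CochainComplex Y.Modules ℤ) (d : ℤ) [P.IsLE d]
    (hP : ∀ n, Coh.IsCoh (P.homology n)) : QuasiIso (θ f i P) := by
  refine (Qis.quasiIso_iff_forall_stalk _).2 fun x => ⟨fun n => ?_⟩
  rw [quasiIsoAt_iff_isIso_homologyMap]
  let m : ℤ := aI - n - 2 - max 0 0
  haveI : (DerivedCategory.Q.obj P).IsLE d := (DerivedCategory.isLE_Q_obj_iff P d).2 inferInstance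
  have hpc : PseudoCoh.PCAt m (DerivedCategory.Q.obj P) (f.base x) :=
    Perfect.PCCoh.pcAt_of_coh m (d + 1 - m).toNat (DerivedCategory.Q.obj P) d (by omega) inferInstance
      (fun i _ _ => CohBasics.Closure.isCoh_of_iso
        ((DerivedCategory.homologyFunctorFactors Y.Modules i).app P).symm (hP i)) (f.base x)
  obtain ⟨W, k, _, E', α, hxW, hE', ⟨p, q, hpq⟩, hι⟩ := Model.exists_model_near hpc
  have hxV : x ∈ f ⁻¹ᵁ k.opensRange := hxW
  let C := CochainComplex.mappingCone α
  let S := LocalTor.Split.coneSeq α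
  let C' := C.truncLE (m - 1)
  have hS : S.ShortExact := HomologicalComplex.shortExact_of_degreewise_shortExact _
    fun i => (LocalTor.Split.coneSplitting α i).shortExact
  have hdev := isDevissable f i hI hJ
  have hE : QisAt (f ⁻¹ᵁ k.opensRange) (θ f i (E'⟦(1 : ℤ)⟧)) := by
    refine DualDevissage.of_terms hdev (E'⟦(1 : ℤ)⟧) (fun j => ?_) (fun j => ?_) q
      ((q + 1 - p).toNat) fun j hj => hpq (j + 1) (by omega)
    · obtain ⟨r, ⟨e⟩⟩ := hE' (j + 1)
      exact flatIn_of_iso e (flatIn_extZero_free k r)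
    · obtain ⟨r, ⟨e⟩⟩ := hE' (j + 1)
      exact DualDevissage.of_iso hdev ((single Y.Modules (ComplexShape.up ℤ) j).mapIso e)
        (adm_single (flatIn_of_iso e (flatIn_extZero_free k r)) j)
        (adm_single (flatIn_extZero_free k r) j) (DualDevissage.extZero_free hdev k r j)
  have hst : ∀ {Z : Scheme.{u}} (z : Z) {K : CochainComplex Z.Modules ℤ} (j : ℤ),
      K.ExactAt j → ((St z).obj K).ExactAt j :=
    fun {Z} z {K} j h => (exactAt_iff _ j).2 (((exactAt_iff _ j).1 h).map (stalkModFunctor _ z))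
  haveI := CohDelta.BC.Flat.preservesFiniteLimits_pullback f
  haveI : PreservesColimitsOfSize.{u, u} (Scheme.Modules.pullback f) :=
    (Scheme.Modules.pullbackPushforwardAdjunction f).leftAdjoint_preservesColimits
  haveI : PreservesFiniteColimits (Scheme.Modules.pullback f) :=
    PreservesColimitsOfSize.preservesFiniteColimits _
  have h₁ : ∀ j, j ≤ n + 1 → ((St x).obj ((pullC f).obj ((Hc C).obj I))).ExactAt j := fun j hj => by
    have h0 : ((Hc C').obj I).ExactAt j := (exactAt_iff_isZero_homology _ j).2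
      (SchColim29.RHomLocal.isZero_homology_Hc C' (m - 1) aI j (by omega))
    refine (Main.exactAt_of_qisAt (qisAt_pullC f (qisAt_pre hI _ hι)) hxV j).2 (hst x j ?_)
    exact (exactAt_iff _ j).2 (((exactAt_iff _ j).1 h0).map (Scheme.Modules.pullback f))
  haveI : ((pullC f).obj C').IsStrictlyLE (m - 1) := (CochainComplex.isStrictlyLE_iff _ _).2 fun j hj =>
    (Scheme.Modules.pullback f).map_isZero (C'.isZero_of_isStrictlyLE (m - 1) j hj)
  have h₂ : ∀ j, j ≤ n + 1 → ((St x).obj ((Hc ((pullC f).obj C)).obj J)).ExactAt j := fun j hj =>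
    (Main.exactAt_of_qisAt (qisAt_pre hJ _ (qisAt_pullC f hι)) hxV j).2
      (hst x j ((exactAt_iff_isZero_homology _ j).2
        (SchColim29.RHomLocal.isZero_homology_Hc ((pullC f).obj C') (m - 1) aI j (by omega))))
  let T := hcSC (S.map (pullC f)) J
  let Φ : (hcSC S I).map (pullC f) ⟶ T := ShortComplex.homMk (θ f i S.X₃) (θ f i S.X₂)
    (θ f i S.X₁) (θ_natural f i S.g) (θ_natural f i S.f)
  have s₁ := shortExact_stalk (shortExact_pullC f (shortExact_hcSC' hS hI)) x
  have s₂ := shortExact_stalk (shortExact_hcSC' (shortExact_pullC f hS) hJ) x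
  have key : ∀ {R : ShortComplex (CochainComplex (ModuleCat.{u} (X.presheaf.stalk x)) ℤ)}
      (hR : R.ShortExact), R.X₂.ExactAt n → R.X₂.ExactAt (n + 1) →
        IsIso (hR.δ n (n + 1) (by simp)) := fun {R} hR e₁ e₂ => by
    haveI : Mono (hR.δ n (n + 1) (by simp)) :=
      (hR.homology_exact₃ n (n + 1) (by simp)).mono_g (e₁.isZero_homology.eq_of_src _ _)
    haveI : Epi (hR.δ n (n + 1) (by simp)) :=
      (hR.homology_exact₁ n (n + 1) (by simp)).epi_f (e₂.isZero_homology.eq_of_tgt _ _)
    exact isIso_of_mono_of_epi _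
  -- `hcSC` reverses `S`: its first term is `Hom(E'⟦1⟧, -)`, its last `Hom(P, -)`
  have k₁ := key s₁ (h₁ n (by omega)) (h₁ (n + 1) le_rfl)
  have k₂ := key s₂ (h₂ n (by omega)) (h₂ (n + 1) le_rfl)
  have hn := HomologicalComplex.HomologySequence.δ_naturality ((St x).mapShortComplex.map Φ) s₁ s₂
    n (n + 1) (by simp)
  have h : IsIso (homologyMap ((St x).map (θ f i S.X₃)) (n + 1)) :=
    (quasiIsoAt_iff_isIso_homologyMap _ _).1 ((hE x hxV).quasiIsoAt (n + 1))
  have h6 : s₁.δ n (n + 1) (by simp) ≫ homologyMap ((St x).map (θ f i S.X₃)) (n + 1) =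
      homologyMap ((St x).map (θ f i S.X₁)) n ≫ s₂.δ n (n + 1) (by simp) := hn
  have h5 : IsIso (homologyMap ((St x).map (θ f i S.X₁)) n ≫ s₂.δ n (n + 1) (by simp)) := by
    rw [← h6]
    exact @IsIso.comp_isIso' _ _ _ _ _ _ _ k₁ h
  exact @IsIso.of_isIso_comp_right _ _ _ _ _ _ (s₂.δ n (n + 1) _) k₂ h5

end Groth.Agent.Lib.PullHom77
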